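import Mathlib

/-! Every automorphism of the alternating group of degree other than six comes from the symmetric
group. -/

set_option autoImplicit false
set_option maxRecDepth 20000

namespace Cfsg.Agent.AltAut

open Equiv Equiv.Perm

variable {α : Type*} [DecidableEq α] [Fintype α]

/-- The cycle `a ↦ b ↦ c ↦ a`. -/
def cyc (a b c : α) : Perm α := swap a b * swap b c

omit [Fintype α] in
theorem cyc_fst {a b c : α} (hab : a ≠ b) (hac : a ≠ c) : cyc a b c a = b := by
  simp [cyc, swap_apply_of_ne_of_ne hab hac]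

omit [Fintype α] in
theorem cyc_snd {a b c : α} (hac : a ≠ c) (hbc : b ≠ c) : cyc a b c b = c := by
  simp [cyc, swap_apply_of_ne_of_ne hac.symm hbc.symm]

omit [Fintype α] in
theorem cyc_thd {a b c : α} : cyc a b c c = a := by simp [cyc]

omit [Fintype α] in
theorem cyc_other {a b c x : α} (h1 : x ≠ a) (h2 : x ≠ b) (h3 : x ≠ c) : cyc a b c x = x := by
  simp [cyc, swap_apply_of_ne_of_ne h2 h3, swap_apply_of_ne_of_ne h1 h2]

omit [Fintype α] in
theorem cyc_conj (σ : Perm α) (a b c : α) : σ * cyc a b c * σ⁻¹ = cyc (σ a) (σ b) (σ c) := by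
  rw [cyc, cyc, swap_apply_apply, swap_apply_apply]
  group

omit [Fintype α] in
theorem cyc_rot {a b c : α} (hab : a ≠ b) (hbc : b ≠ c) (hac : a ≠ c) : cyc a b c = cyc b c a := by
  ext x
  by_cases h1 : x = a
  · subst h1; rw [cyc_fst hab hac, cyc_thd]
  by_cases h2 : x = b
  · subst h2; rw [cyc_snd hac hbc, cyc_fst hbc hab.symm]
  by_cases h3 : x = c
  · subst h3; rw [cyc_thd, cyc_snd hab.symm hac.symm]
  rw [cyc_other h1 h2 h3, cyc_other h2 h3 h1]

omit [Fintype α] in
theorem cyc_inv (a b c : α) : (cyc a b c)⁻¹ = cyc c b a := by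
  simp [cyc, swap_comm a b, swap_comm b c]

theorem cyc_mem {a b c : α} (hab : a ≠ b) (hbc : b ≠ c) : cyc a b c ∈ alternatingGroup α := by
  rw [mem_alternatingGroup, cyc, map_mul, sign_swap hab, sign_swap hbc, Int.units_mul_self]

theorem isThreeCycle_cyc {a b c : α} (hab : a ≠ b) (hbc : b ≠ c) (hac : a ≠ c) :
    (cyc a b c).IsThreeCycle := by
  rw [cyc, swap_comm a b]
  exact isThreeCycle_swap_mul_swap_same hab.symm hbc hac

theorem cube_eq_one {x : Perm α} (h : x.IsThreeCycle) : x ^ 3 = 1 := by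
  rw [← h.orderOf, pow_orderOf_eq_one]

/-- A three-cycle is the cycle through a point it moves. -/
theorem eq_cyc {x : Perm α} (h : x.IsThreeCycle) {a : α} (ha : x a ≠ a) :
    x = cyc a (x a) (x (x a)) ∧ x a ≠ x (x a) ∧ a ≠ x (x a) ∧ x (x (x a)) = a := by
  have h3 : x (x (x a)) = a := by
    have := congrArg (fun p : Perm α => p a) (cube_eq_one h)
    simpa [pow_succ] using this
  have h1 : x a ≠ x (x a) := fun e => ha (x.injective e.symm)
  have h2 : a ≠ x (x a) := fun e => by
    rw [← e] at h3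
    exact ha h3
  refine ⟨?_, h1, h2, h3⟩
  have hsub : ({a, x a, x (x a)} : Finset α) ⊆ x.support := by
    intro y hy
    simp only [Finset.mem_insert, Finset.mem_singleton] at hy
    rw [mem_support]
    rcases hy with rfl | rfl | rfl
    · exact ha
    · exact h1.symm
    · rw [h3]; exact h2
  have hcard : ({a, x a, x (x a)} : Finset α).card = 3 := by
    rw [Finset.card_insert_of_notMem (by simp [ha.symm, h2]),
      Finset.card_insert_of_notMem (by simp [h1]), Finset.card_singleton]
  have heq := Finset.eq_of_subset_of_card_le hsub (by rw [hcard, h.card_support])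
  ext y
  by_cases e1 : y = a
  · subst e1; rw [cyc_fst ha.symm h2]
  by_cases e2 : y = x a
  · subst e2; rw [cyc_snd h2 h1]
  by_cases e3 : y = x (x a)
  · subst e3; rw [h3, cyc_thd]
  rw [cyc_other e1 e2 e3]
  by_contra hne
  have := mem_support.2 hne
  rw [← heq] at this
  simp [e1, e2, e3] at this

/-- Two three-cycles whose product is an involution share a directed edge. -/
theorem exists_edge {A B : Perm α} (hA : A.IsThreeCycle) (hB : B.IsThreeCycle)
    (h2 : (A * B) ^ 2 = 1) (h1 : A * B ≠ 1) :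
    ∃ u, A u ≠ u ∧ A u = B u := by
  by_contra hno
  push Not at hno
  -- a common moved point
  obtain ⟨a, haA, haB⟩ : ∃ a, A a ≠ a ∧ B a ≠ a := by
    by_contra hc
    push Not at hc
    have hdis : Disjoint A B := fun x => (em (A x = x)).imp id fun h => hc x h
    have hcomm := hdis.commute
    rw [hcomm.mul_pow] at h2
    have hA2 : A ^ 2 = A⁻¹ := eq_inv_of_mul_eq_one_left (by rw [← pow_succ, cube_eq_one hA])
    have hB2 : B ^ 2 = B⁻¹ := eq_inv_of_mul_eq_one_left (by rw [← pow_succ, cube_eq_one hB])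
    rw [hA2, hB2, ← _root_.mul_inv_rev, inv_eq_one, ← hcomm.eq] at h2
    exact h1 h2
  obtain ⟨eA, hA1, hA2, hA3⟩ := eq_cyc hA haA
  obtain ⟨eB, hB1, hB2, hB3⟩ := eq_cyc hB haB
  set b := A a with hb
  set c := A b with hc
  set q := B a with hq
  set r := B q with hr
  have hsq : ∀ x, A (B (A (B x))) = x := fun x => by
    have := congrArg (fun p : Perm α => p x) h2
    simpa [pow_succ] using this
  have oA : ∀ x, x ≠ a → x ≠ b → x ≠ c → A x = x := fun x h1 h2 h3 => by
    rw [eA]; exact cyc_other h1 h2 h3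
  have oB : ∀ x, x ≠ a → x ≠ q → x ≠ r → B x = x := fun x h1 h2 h3 => by
    rw [eB]; exact cyc_other h1 h2 h3
  have hqb : q ≠ b := fun e => hno a haA e.symm
  have hrc : r ≠ c := fun e => hno c (by rw [hA3]; exact hA2) (by rw [hA3, ← e, hB3])
  by_cases hqc : q = c
  · by_cases hrb : r = b
    · refine h1 (Equiv.ext fun x => ?_)
      have : B = A⁻¹ := by
        rw [eA, eB, cyc_inv, hqc, hrb]
        exact cyc_rot hA2 hA1.symm haA.symm
      rw [this, mul_inv_cancel]
    · have e := hsq c
      rw [show B c = r by rw [hr, hqc], oA r hB2.symm hrb hrc, hB3, ← hb,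
        ] at e
      exact hA1 e
  · have hAq : A q = q := oA q haB hqb hqc
    have e := hsq a
    rw [← hq, hAq, ← hr] at e
    by_cases hrb : r = b
    · rw [hrb, ← hc] at e
      exact hA2 e.symm
    · rw [oA r hB2.symm hrb hrc] at e
      exact hB2 e.symm

/-- The orders of products of two conjugate three-cycles. -/
theorem pow_conj_three {A B : Perm α} (hA : A.IsThreeCycle) (hB : B.IsThreeCycle) :
    ∃ k ∈ [1, 2, 3, 5], (A * B) ^ k = 1 := by
  by_cases hc : ∃ a, A a ≠ a ∧ B a ≠ a
  · obtain ⟨a, haA, haB⟩ := hc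
    obtain ⟨eA, -, -, -⟩ := eq_cyc hA haA
    obtain ⟨eB, -, -, -⟩ := eq_cyc hB haB
    -- the product lives on five points
    set s : Finset α := {a, A a, A (A a), B a, B (B a)} with hs
    have hcard : s.card ≤ 5 := Finset.card_le_five
    have hfix : ∀ x, x ∉ s → (A * B) x = x := fun x hx => by
      simp only [hs, Finset.mem_insert, Finset.mem_singleton, not_or] at hx
      rw [Perm.mul_apply, eB, cyc_other hx.1 hx.2.2.2.1 hx.2.2.2.2, eA,
        cyc_other hx.1 hx.2.1 hx.2.2.1]
    have hsign : sign (A * B) = 1 := by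
      rw [map_mul, hA.sign, hB.sign, one_mul]
    obtain ⟨g, hg⟩ : ∃ g : Perm {x // x ∈ s}, ofSubtype g = A * B := by
      refine ⟨(A * B).subtypePerm fun x => ?_, ofSubtype_subtypePerm _ fun x hx => ?_⟩
      · constructor
        · intro h
          by_contra h'
          exact h' ((hfix x h').symm ▸ h)
        · intro h
          by_contra h'
          have h'' := hfix _ h'
          rw [(A * B).injective.eq_iff] at h''
          exact h' (h''.symm ▸ h)
      · by_contra h'
        exact hx (hfix x h')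
    let e : {x // x ∈ s} ↪ Fin 5 := (Fintype.equivFin _).toEmbedding.trans
      (Fin.castLEEmb (by rw [Fintype.card_coe]; exact hcard))
    have hs1 : sign g = 1 := by rw [← hsign, ← hg, sign_ofSubtype]
    have key : ∀ p : Perm (Fin 5), sign p = 1 → ∃ k ∈ [1, 2, 3, 5], p ^ k = 1 := by
      decide +kernel
    obtain ⟨k, hk, hp⟩ := key (g.viaFintypeEmbedding e) (by rw [viaFintypeEmbedding_sign, hs1])
    refine ⟨k, hk, ?_⟩
    have hg1 : g ^ k = 1 := by
      ext x
      have := congrArg (fun p : Perm (Fin 5) => p (e x)) hp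
      have himg : ∀ n : ℕ, (g.viaFintypeEmbedding e ^ n) (e x) = e ((g ^ n) x) := by
        intro n
        induction n with
        | zero => simp
        | succ n ih =>
          rw [pow_succ', Perm.mul_apply, ih, viaFintypeEmbedding_apply_image, pow_succ',
            Perm.mul_apply]
      simp only [himg, Perm.one_apply, EmbeddingLike.apply_eq_iff_eq] at this
      rw [this, Perm.one_apply]
    rw [← hg, ← map_pow, hg1, map_one]
  · push Not at hc
    have hdis : Disjoint A B := fun x => (em (A x = x)).imp id fun h => hc x h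
    exact ⟨3, by simp, by rw [hdis.commute.mul_pow, cube_eq_one hA, cube_eq_one hB, one_mul]⟩

/-- Model with two cycles and a fixed point. -/
def y7 : Perm (Fin 7) := cyc 0 1 2 * cyc 3 4 5
/-- Model with three cycles. -/
def y9 : Perm (Fin 9) := cyc 0 1 2 * cyc 3 4 5 * cyc 6 7 8
/-- The conjugator of the models. -/
def z7 : Perm (Fin 7) := swap 2 3 * swap 5 6
/-- The conjugator of the models. -/
def z9 : Perm (Fin 9) := swap 2 3 * swap 5 6

theorem order_model {m : ℕ} {y0 z0 : Perm (Fin m)} (hz : sign z0 = 1) (o : Fin m)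
    (hno : ∀ k ∈ [1, 2, 3, 5], ((y0 * (z0 * y0 * z0⁻¹)) ^ k) o ≠ o)
    {y : Perm α} (e : Fin m ↪ α) (hy : ∀ i, y (e i) = e (y0 i)) :
    ∃ z ∈ alternatingGroup α, ∀ k ∈ [1, 2, 3, 5], (y * (z * y * z⁻¹)) ^ k ≠ 1 := by
  refine ⟨z0.viaFintypeEmbedding e, ?_, fun k hk h => hno k hk ?_⟩
  · rw [mem_alternatingGroup, viaFintypeEmbedding_sign, hz]
  set z := z0.viaFintypeEmbedding e
  have hzi : ∀ i, z (e i) = e (z0 i) := fun i => viaFintypeEmbedding_apply_image z0 e i
  have hzinv : ∀ i, z⁻¹ (e i) = e (z0⁻¹ i) := fun i => by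
    rw [Perm.inv_eq_iff_eq, hzi, ← Perm.mul_apply, mul_inv_cancel, Perm.one_apply]
  have himg : ∀ n : ℕ, ((y * (z * y * z⁻¹)) ^ n) (e o) =
      e (((y0 * (z0 * y0 * z0⁻¹)) ^ n) o) := by
    intro n
    induction n with
    | zero => simp
    | succ n ih =>
      rw [pow_succ', Perm.mul_apply, ih, pow_succ', Perm.mul_apply]
      simp only [Perm.mul_apply, hzinv, hy, hzi]
  have := himg k
  rw [h, Perm.one_apply] at this
  exact e.injective this.symm

/-- A permutation of order three other than a three-cycle has a conjugate with which its product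
is of large order, unless the degree is six. -/
theorem exists_bad_conj {y : Perm α} (h3 : y ^ 3 = 1) (hy1 : y ≠ 1) (hnc : ¬ y.IsThreeCycle)
    (h6 : Fintype.card α ≠ 6) :
    ∃ z ∈ alternatingGroup α, ∀ k ∈ [1, 2, 3, 5], (y * (z * y * z⁻¹)) ^ k ≠ 1 := by
  have hc : ∀ x, y (y (y x)) = x := fun x => by
    have := congrArg (fun p : Perm α => p x) h3
    simpa [pow_succ] using this
  have ne1 : ∀ x, y x ≠ x → y (y x) ≠ x ∧ y (y x) ≠ y x := fun x hx =>
    ⟨fun e => hx (by conv_lhs => rw [← e, hc x]), fun e => hx (y.injective e)⟩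
  obtain ⟨a, ha⟩ : ∃ a, y a ≠ a := by
    by_contra h
    push Not at h
    exact hy1 (Equiv.ext h)
  obtain ⟨ha2, ha3⟩ := ne1 a ha
  obtain ⟨d, hd, hd1, hd2, hd3⟩ : ∃ d, y d ≠ d ∧ d ≠ a ∧ d ≠ y a ∧ d ≠ y (y a) := by
    by_contra h
    push Not at h
    refine hnc ?_
    convert isThreeCycle_cyc ha.symm ha3.symm ha2.symm
    refine Equiv.ext fun x => ?_
    by_cases e1 : x = a
    · subst e1; rw [cyc_fst ha.symm ha2.symm]
    by_cases e2 : x = y a
    · subst e2; rw [cyc_snd ha2.symm ha3.symm]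
    by_cases e3 : x = y (y a)
    · subst e3; rw [hc, cyc_thd]
    rw [cyc_other e1 e2 e3]
    by_contra hx
    exact e3 (h x hx e1 e2)
  obtain ⟨hd4, hd5⟩ := ne1 d hd
  have inj := y.injective
  -- the six points
  have p1 : y d ≠ a := fun e => hd3 (by rw [← e, hc])
  have p2 : y d ≠ y a := fun e => hd1 (inj e)
  have p3 : y d ≠ y (y a) := fun e => hd2 (inj e)
  have p4 : y (y d) ≠ a := fun e => hd2 (by rw [← e, hc])
  have p5 : y (y d) ≠ y a := fun e => hd3 (by rw [← inj e, hc])
  have p6 : y (y d) ≠ y (y a) := fun e => hd1 (inj (inj e))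
  obtain ⟨g, hg⟩ : ∃ g, g ∉ ({a, y a, y (y a), d, y d, y (y d)} : Finset α) := by
    by_contra h
    push Not at h
    apply h6
    have hs : ({a, y a, y (y a), d, y d, y (y d)} : Finset α) = Finset.univ :=
      Finset.eq_univ_iff_forall.2 h
    rw [← Finset.card_univ, ← hs]
    repeat rw [Finset.card_insert_of_notMem]
    · simp
    all_goals simp [ha.symm, ha2.symm, ha3.symm, hd.symm, hd1.symm, hd2.symm, hd3.symm, hd4.symm,
      hd5.symm, p1.symm, p2.symm, p3.symm, p4.symm, p5.symm, p6.symm]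
  simp only [Finset.mem_insert, Finset.mem_singleton, not_or] at hg
  obtain ⟨g1, g2, g3, g4, g5, g6⟩ := hg
  by_cases hgf : y g = g
  · have einj : Function.Injective ![a, y a, y (y a), d, y d, y (y d), g] := by
      rw [← List.nodup_ofFn]
      simp [List.ofFn_succ, ha.symm, ha2.symm, ha3.symm, hd.symm, hd1.symm, hd2.symm, hd3.symm,
        hd4.symm, hd5.symm, p1.symm, p2.symm, p3.symm, p4.symm, p5.symm, p6.symm, Ne.symm g1,
        Ne.symm g2, Ne.symm g3, Ne.symm g4, Ne.symm g5, Ne.symm g6]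
    refine order_model (y0 := y7) (z0 := z7) (by decide +kernel) 0 (by decide +kernel)
      ⟨_, einj⟩ ?_
    intro i
    fin_cases i <;> simp [y7, cyc, hc, hgf, Equiv.swap_apply_def]
  · obtain ⟨g7, g8⟩ := ne1 g hgf
    have q1 : y g ≠ a := fun e => g3 (by rw [← e, hc])
    have q2 : y g ≠ y a := fun e => g1 (inj e)
    have q3 : y g ≠ y (y a) := fun e => g2 (inj e)
    have q4 : y g ≠ d := fun e => g6 (by rw [← e, hc])
    have q5 : y g ≠ y d := fun e => g4 (inj e)
    have q6 : y g ≠ y (y d) := fun e => g5 (inj e)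
    have r1 : y (y g) ≠ a := fun e => g2 (by rw [← e, hc])
    have r2 : y (y g) ≠ y a := fun e => g3 (by rw [← inj e, hc])
    have r3 : y (y g) ≠ y (y a) := fun e => g1 (inj (inj e))
    have r4 : y (y g) ≠ d := fun e => g5 (by rw [← e, hc])
    have r5 : y (y g) ≠ y d := fun e => g6 (by rw [← inj e, hc])
    have r6 : y (y g) ≠ y (y d) := fun e => g4 (inj (inj e))
    have einj : Function.Injective
        ![a, y a, y (y a), d, y d, y (y d), g, y g, y (y g)] := by
      rw [← List.nodup_ofFn]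
      simp [List.ofFn_succ, ha.symm, ha2.symm, ha3.symm, hd.symm, hd1.symm, hd2.symm, hd3.symm,
        hd4.symm, hd5.symm, p1.symm, p2.symm, p3.symm, p4.symm, p5.symm, p6.symm, Ne.symm g1,
        Ne.symm g2, Ne.symm g3, Ne.symm g4, Ne.symm g5, Ne.symm g6, Ne.symm hgf, g7.symm, g8.symm,
        q1.symm, q2.symm, q3.symm, q4.symm, q5.symm, q6.symm, r1.symm, r2.symm, r3.symm, r4.symm,
        r5.symm, r6.symm]
    refine order_model (y0 := y9) (z0 := z9) (by decide +kernel) 0 (by decide +kernel)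
      ⟨_, einj⟩ ?_
    intro i
    fin_cases i <;> simp [y9, cyc, hc, Equiv.swap_apply_def]

theorem isThreeCycle_image (h6 : Fintype.card α ≠ 6) (θ : MulAut (alternatingGroup α))
    (x : alternatingGroup α) (hx : (x : Perm α).IsThreeCycle) :
    (θ x : Perm α).IsThreeCycle := by
  have h3 : (θ x : Perm α) ^ 3 = 1 := by
    rw [← SubgroupClass.coe_pow, ← map_pow,
      show x ^ 3 = 1 from Subtype.ext (by rw [SubgroupClass.coe_pow]; exact cube_eq_one hx),
      map_one, OneMemClass.coe_one]
  by_contra hnc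
  obtain ⟨z, hz, hbad⟩ := exists_bad_conj h3 (fun e => by
    have h1 : θ x = 1 := Subtype.ext e
    rw [MulEquiv.map_eq_one_iff] at h1
    rw [h1] at hx
    exact hx.ne_one rfl) hnc h6
  set w : alternatingGroup α := θ.symm ⟨z, hz⟩ with hw
  obtain ⟨k, hk, e⟩ := pow_conj_three hx
    (B := ((w * x * w⁻¹ : alternatingGroup α) : Perm α)) (by
      rw [Subgroup.coe_mul, Subgroup.coe_mul, Subgroup.coe_inv]
      rw [IsThreeCycle, cycleType_conj]; exact hx)
  refine hbad k hk ?_
  have e' : (x * (w * x * w⁻¹)) ^ k = 1 := Subtype.ext (by simpa using e)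
  have := congrArg (fun u => ((θ u : alternatingGroup α) : Perm α)) e'
  simpa [hw] using this

/-- The orbit structure of the generators: a common edge. -/
theorem edge_unique {A B C : Perm α} {u : α} (hA : A.IsThreeCycle) (hB : B.IsThreeCycle)
    (hC : C.IsThreeCycle) (hAu : A u ≠ u) (hABu : A u = B u) (hAB : A ≠ B)
    {v : α} (hvC : C v ≠ v) (hAv : A v = C v) {w : α} (hwC : C w ≠ w) (hBw : B w = C w) :
    C u = A u := by
  obtain ⟨eA, a1, a2, a3⟩ := eq_cyc hA hAu
  have hBu : B u ≠ u := hABu ▸ hAu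
  obtain ⟨eB, b1, b2, b3⟩ := eq_cyc hB hBu
  rw [← hABu] at eB b1 b2 b3
  set p := A u with hp
  set c := A p with hc
  set d := B p with hd
  have hcd : c ≠ d := fun e => hAB (by rw [eA, eB, e])
  have hv : v = u ∨ v = p ∨ v = c := by
    by_contra h
    push Not at h
    rw [eA, cyc_other h.1 h.2.1 h.2.2] at hAv
    exact hvC hAv.symm
  have hw : w = u ∨ w = p ∨ w = d := by
    by_contra h
    push Not at h
    rw [eB, cyc_other h.1 h.2.1 h.2.2] at hBw
    exact hwC hBw.symm
  have c3 : ∀ x, C (C (C x)) = x := fun x => by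
    have := congrArg (fun q : Perm α => q x) (cube_eq_one hC)
    simpa [pow_succ] using this
  rcases hv with rfl | rfl | rfl
  · exact hAv.symm
  · rcases hw with rfl | rfl | rfl
    · exact (hABu.trans hBw).symm
    · exact absurd (hAv.trans hBw.symm) hcd
    · -- edges `p → c` and `d → u`
      rw [← hc] at hAv
      rw [b3] at hBw
      exfalso
      have hmem : C u ≠ u := fun e => b2 (C.injective (e.trans hBw))
      obtain ⟨eC, -, -, -⟩ := eq_cyc hC (a := p) (by rw [← hAv]; exact a1.symm)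
      have hd' : C d = cyc p (C p) (C (C p)) d := by rw [← eC]
      by_cases h1 : d = C (C p)
      · rw [h1, c3] at hBw
        exact hAu hBw.symm
      · rw [cyc_other b1.symm (by rw [← hAv]; exact hcd.symm) h1] at hd'
        exact hwC hd'
  · rcases hw with rfl | rfl | rfl
    · exact (hABu.trans hBw).symm
    · -- edges `c → u` and `p → d`
      rw [a3] at hAv
      rw [← hd] at hBw
      exfalso
      obtain ⟨eC, -, -, -⟩ := eq_cyc hC (a := p) (by rw [← hBw]; exact b1.symm)
      have hc' : C c = cyc p (C p) (C (C p)) c := by rw [← eC]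
      by_cases h1 : c = C (C p)
      · rw [h1, c3] at hAv
        exact hAu hAv.symm
      · rw [cyc_other a1.symm (by rw [← hBw]; exact hcd) h1] at hc'
        exact hvC hc'
    · rw [a3] at hAv
      rw [b3] at hBw
      exact absurd (C.injective (hAv.symm.trans hBw)) hcd

theorem conj_mem_closure {S : Subgroup (Perm α)} {g x : Perm α} (hg : g ∈ S) (hx : x ∈ S) :
    g * x * g⁻¹ ∈ S := mul_mem (mul_mem hg hx) (inv_mem hg)

/-- The cycles through a fixed edge generate. -/
theorem cyc_mem_of_edge {S : Subgroup (Perm α)} {o l : α} (hol : o ≠ l)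
    (hS : ∀ i, i ≠ o → i ≠ l → cyc o l i ∈ S) :
    ∀ {x : Perm α}, x.IsThreeCycle → x ∈ S := by
  have f1 : ∀ j k, j ≠ k → j ≠ o → j ≠ l → k ≠ o → k ≠ l → cyc l j k ∈ S := by
    intro j k hjk hjo hjl hko hkl
    have h := conj_mem_closure (hS j hjo hjl) (hS k hko hkl)
    rwa [cyc_conj, cyc_fst hol hjo.symm, cyc_snd hjo.symm hjl.symm, cyc_other hko hkl hjk.symm] at h
  have f0 : ∀ j k, j ≠ k → j ≠ o → j ≠ l → k ≠ o → k ≠ l → cyc o j k ∈ S := by
    intro j k hjk hjo hjl hko hkl
    have a1 : cyc j l o ∈ S := by rw [← cyc_inv]; exact inv_mem (hS j hjo hjl)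
    have a2 : cyc k l o ∈ S := by rw [← cyc_inv]; exact inv_mem (hS k hko hkl)
    have h := conj_mem_closure a1 a2
    rw [cyc_conj, cyc_snd hjo hol.symm, cyc_thd, cyc_other hjk.symm hkl hko,
      cyc_rot hko hjo.symm hjk.symm] at h
    exact h
  have f2 : ∀ i j k, i ≠ j → i ≠ k → j ≠ k → i ≠ o → i ≠ l → j ≠ o → j ≠ l → k ≠ o → k ≠ l →
      cyc i j k ∈ S := by
    intro i j k hij hik hjk hio hil hjo hjl hko hkl
    have h := conj_mem_closure (hS i hio hil) (f1 j k hjk hjo hjl hko hkl)
    rwa [cyc_conj, cyc_snd hio.symm hil.symm, cyc_other hjo hjl hij.symm,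
      cyc_other hko hkl hik.symm] at h
  intro x hx
  -- cycles containing the first point
  have withO : ∀ j k, j ≠ k → j ≠ o → k ≠ o → cyc o j k ∈ S := by
    intro j k hjk hjo hko
    by_cases hjl : j = l
    · subst hjl
      exact hS k hko hjk.symm
    by_cases hkl : k = l
    · subst hkl
      have h := inv_mem (hS j hjo hjl)
      rwa [cyc_inv, cyc_rot hjk hko hjo, cyc_rot hko hjo.symm hjk.symm] at h
    exact f0 j k hjk hjo hjl hko hkl
  obtain ⟨a, ha⟩ : ∃ a, x a ≠ a := by
    by_contra h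
    push Not at h
    exact hx.ne_one (Equiv.ext h)
  obtain ⟨e, h1, h2, -⟩ := eq_cyc hx ha
  rw [e]
  set b := x a
  set c := x b
  have hab : a ≠ b := ha.symm
  by_cases hao : a = o
  · subst hao; exact withO b c h1 hab.symm h2.symm
  by_cases hbo : b = o
  · rw [cyc_rot hab h1 h2, hbo]
    exact withO c a h2.symm (hbo ▸ h1.symm) (hbo ▸ hab)
  by_cases hco : c = o
  · rw [cyc_rot hab h1 h2, cyc_rot h1 h2.symm hab.symm, hco]
    exact withO a b hab (hco ▸ h2) (hco ▸ h1)
  by_cases hal : a = l
  · subst hal; exact f1 b c h1 hbo hab.symm hco h2.symm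
  by_cases hbl : b = l
  · rw [cyc_rot hab h1 h2, hbl]
    exact f1 c a h2.symm hco (hbl ▸ h1.symm) hao hal
  by_cases hcl : c = l
  · rw [cyc_rot hab h1 h2, cyc_rot h1 h2.symm hab.symm, hcl]
    exact f1 a b hab hao hal hbo hbl
  exact f2 a b c hab h2 h1 hao hal hbo hbl hco hcl

/-- An automorphism preserving the 3-cycles is conjugation by a permutation. -/
theorem exists_perm_of_threeCycle (h4 : 4 ≤ Fintype.card α) (θ : MulAut (alternatingGroup α))
    (hθ : ∀ x : alternatingGroup α, (x : Perm α).IsThreeCycle → (θ x : Perm α).IsThreeCycle) :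
    ∃ σ : Perm α, MulAut.conjNormal σ = θ := by
  obtain ⟨o⟩ : Nonempty α := Fintype.card_pos_iff.1 (by omega)
  obtain ⟨l, hlo⟩ := Fintype.exists_ne_of_one_lt_card (by omega) o
  have hol : o ≠ l := hlo.symm
  -- the images of the generators
  let img : ∀ i, i ≠ o → i ≠ l → Perm α := fun i h1 h2 =>
    (θ ⟨cyc o l i, cyc_mem hol h2.symm⟩ : alternatingGroup α)
  have himg : ∀ i (h1 : i ≠ o) (h2 : i ≠ l), (img i h1 h2).IsThreeCycle := fun i h1 h2 =>
    hθ _ (isThreeCycle_cyc hol h2.symm h1.symm)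
  have hinj : ∀ i j (h1 : i ≠ o) (h2 : i ≠ l) (g1 : j ≠ o) (g2 : j ≠ l),
      img i h1 h2 = img j g1 g2 → i = j := by
    intro i j h1 h2 g1 g2 h
    have h' := congrArg Subtype.val (θ.injective (Subtype.ext h))
    have := congrArg (fun p : Perm α => p l) h'
    simpa only [cyc_snd h1.symm h2.symm, cyc_snd g1.symm g2.symm] using this
  have hprod : ∀ i j (h1 : i ≠ o) (h2 : i ≠ l) (g1 : j ≠ o) (g2 : j ≠ l), i ≠ j →
      (img i h1 h2 * img j g1 g2) ^ 2 = 1 ∧ img i h1 h2 * img j g1 g2 ≠ 1 := by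
    intro i j h1 h2 g1 g2 hij
    have hmul : cyc o l i * cyc o l j = swap o i * swap l j := by
      ext x
      simp only [Perm.mul_apply]
      by_cases e1 : x = o
      · subst e1
        rw [cyc_fst hol g1.symm, cyc_snd h1.symm h2.symm, swap_apply_of_ne_of_ne hol g1.symm,
          swap_apply_left]
      by_cases e2 : x = l
      · subst e2
        rw [cyc_snd g1.symm g2.symm, cyc_other g1 g2 hij.symm, swap_apply_left,
          swap_apply_of_ne_of_ne g1 hij.symm]
      by_cases e3 : x = i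
      · subst e3
        rw [cyc_other h1 h2 hij, cyc_thd, swap_apply_of_ne_of_ne h2 hij, swap_apply_right]
      by_cases e4 : x = j
      · subst e4
        rw [cyc_thd, cyc_fst hol h1.symm, swap_apply_right, swap_apply_of_ne_of_ne hlo h2.symm]
      rw [cyc_other e1 e2 e4, cyc_other e1 e2 e3, swap_apply_of_ne_of_ne e2 e4,
        swap_apply_of_ne_of_ne e1 e3]
    set A : alternatingGroup α := ⟨cyc o l i, cyc_mem hol h2.symm⟩
    set B : alternatingGroup α := ⟨cyc o l j, cyc_mem hol g2.symm⟩
    have hsq : (A * B) ^ 2 = 1 := Subtype.ext (by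
      rw [SubgroupClass.coe_pow, Subgroup.coe_mul, OneMemClass.coe_one, hmul]
      have hc : Commute (swap o i) (swap l j) := by
        refine Disjoint.commute fun x => ?_
        by_cases e : x = o ∨ x = i
        · right
          rcases e with rfl | rfl
          · exact swap_apply_of_ne_of_ne hol g1.symm
          · exact swap_apply_of_ne_of_ne h2 hij
        · push Not at e
          exact Or.inl (swap_apply_of_ne_of_ne e.1 e.2)
      rw [hc.mul_pow, pow_two, pow_two, swap_mul_self, swap_mul_self, one_mul])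
    have hne : A * B ≠ 1 := fun e => by
      have := congrArg (fun p : alternatingGroup α => (p : Perm α) o) e
      simp only [Subgroup.coe_mul, OneMemClass.coe_one, Perm.one_apply] at this
      rw [show ((A : Perm α) * (B : Perm α)) = swap o i * swap l j from hmul, Perm.mul_apply,
        swap_apply_of_ne_of_ne hol g1.symm, swap_apply_left] at this
      exact h1 this
    refine ⟨?_, fun h => hne (θ.injective (Subtype.ext (by simpa [img, map_mul] using h)))⟩
    have e : θ ((A * B) ^ 2) = 1 := by rw [hsq, map_one]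
    rw [map_pow, map_mul] at e
    simpa [img, A, B] using congrArg Subtype.val e
  -- the common edge
  obtain ⟨i₀, hi₀, hi₀'⟩ : ∃ i, i ≠ o ∧ i ≠ l := by
    by_contra h
    push Not at h
    have : Fintype.card α ≤ ({o, l} : Finset α).card :=
      Finset.card_le_card fun x _ => by
        by_cases hx : x = o
        · simp [hx]
        · simp [h x hx]
    have := Finset.card_le_two (a := o) (b := l)
    omega
  obtain ⟨i₁, hi₁, hi₁', hi₁''⟩ : ∃ i, i ≠ o ∧ i ≠ l ∧ i ≠ i₀ := by
    by_contra h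
    push Not at h
    have : Fintype.card α ≤ ({o, l, i₀} : Finset α).card :=
      Finset.card_le_card fun x _ => by
        by_cases hx : x = o
        · simp [hx]
        by_cases hx' : x = l
        · simp [hx']
        simp [h x hx hx']
    have := Finset.card_le_three (a := o) (b := l) (c := i₀)
    omega
  obtain ⟨hp1, hp2⟩ := hprod i₀ i₁ hi₀ hi₀' hi₁ hi₁' hi₁''.symm
  obtain ⟨u, hu, huB⟩ := exists_edge (himg i₀ hi₀ hi₀') (himg i₁ hi₁ hi₁') hp1 hp2
  set v := img i₀ hi₀ hi₀' u with hv
  have hedge : ∀ i (h1 : i ≠ o) (h2 : i ≠ l), img i h1 h2 u = v := by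
    intro i h1 h2
    by_cases e0 : i = i₀
    · subst e0; rfl
    by_cases e1 : i = i₁
    · subst e1; exact huB.symm
    obtain ⟨q1, q2⟩ := hprod i₀ i hi₀ hi₀' h1 h2 (Ne.symm e0)
    obtain ⟨x, hx, hxe⟩ := exists_edge (himg i₀ hi₀ hi₀') (himg i h1 h2) q1 q2
    obtain ⟨r1, r2⟩ := hprod i₁ i hi₁ hi₁' h1 h2 (Ne.symm e1)
    obtain ⟨y, hy, hye⟩ := exists_edge (himg i₁ hi₁ hi₁') (himg i h1 h2) r1 r2
    exact edge_unique (himg i₀ hi₀ hi₀') (himg i₁ hi₁ hi₁') (himg i h1 h2) hu huB
      (fun e => hi₁'' (hinj _ _ hi₀ hi₀' hi₁ hi₁' e).symm)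
      (hxe ▸ hx) hxe (hye ▸ hy) hye
  -- the permutation
  let f : α → α := fun i => if h1 : i = o then u else if h2 : i = l then v else img i h1 h2 v
  have hf : ∀ i (h1 : i ≠ o) (h2 : i ≠ l), img i h1 h2 = cyc u v (f i) ∧ v ≠ f i ∧ u ≠ f i := by
    intro i h1 h2
    obtain ⟨e, a1, a2, -⟩ := eq_cyc (himg i h1 h2) (a := u) (by rw [hedge i h1 h2]; exact hu)
    rw [hedge i h1 h2] at e a1 a2
    simp only [f, dif_neg h1, dif_neg h2]
    exact ⟨e, a1, a2⟩
  have hfo : f o = u := by simp [f]
  have hfl : f l = v := by simp [f, hlo]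
  have hfinj : Function.Injective f := by
    intro i j h
    by_cases a1 : i = o
    · subst a1
      by_cases b1 : j = i
      · exact b1.symm
      by_cases b2 : j = l
      · subst b2; rw [hfo, hfl] at h; exact absurd h.symm hu
      · rw [hfo] at h; exact absurd h (hf j b1 b2).2.2
    by_cases a2 : i = l
    · subst a2
      by_cases b2 : j = i
      · exact b2.symm
      by_cases b1 : j = o
      · subst b1; rw [hfo, hfl] at h; exact absurd h hu
      · rw [hfl] at h; exact absurd h (hf j b1 b2).2.1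
    by_cases b1 : j = o
    · subst b1; rw [hfo] at h; exact absurd h.symm (hf i a1 a2).2.2
    by_cases b2 : j = l
    · subst b2; rw [hfl] at h; exact absurd h.symm (hf i a1 a2).2.1
    refine hinj i j a1 a2 b1 b2 ?_
    rw [(hf i a1 a2).1, (hf j b1 b2).1, h]
  let σ : Perm α := Equiv.ofBijective f ⟨hfinj, Finite.injective_iff_surjective.1 hfinj⟩
  refine ⟨σ, ?_⟩
  let S : Subgroup (Perm α) := (MonoidHom.eqLocus
    (((MulAut.conjNormal σ : MulAut (alternatingGroup α)).toMonoidHom) :
      alternatingGroup α →* alternatingGroup α) θ.toMonoidHom).map (alternatingGroup α).subtype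
  have hS : ∀ i, i ≠ o → i ≠ l → cyc o l i ∈ S := fun i h1 h2 => by
    refine ⟨⟨cyc o l i, cyc_mem hol h2.symm⟩, Subtype.ext ?_, rfl⟩
    show (MulAut.conjNormal σ (⟨cyc o l i, _⟩ : alternatingGroup α) : Perm α) = img i h1 h2
    rw [MulAut.conjNormal_apply, cyc_conj, (hf i h1 h2).1]
    show cyc (f o) (f l) (f i) = _
    rw [hfo, hfl]
  have hall : alternatingGroup α ≤ S := by
    rw [← closure_three_cycles_eq_alternating, Subgroup.closure_le]
    exact fun x hx => cyc_mem_of_edge hol hS hx
  refine MulEquiv.ext fun x => ?_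
  obtain ⟨y, hy, e⟩ := hall x.2
  obtain rfl : y = x := Subtype.ext e
  exact hy

/-- Every automorphism is conjugation by a permutation. -/
theorem exists_perm (h4 : 4 ≤ Fintype.card α) (h6 : Fintype.card α ≠ 6)
    (θ : MulAut (alternatingGroup α)) : ∃ σ : Perm α, MulAut.conjNormal σ = θ :=
  exists_perm_of_threeCycle h4 θ (isThreeCycle_image h6 θ)

/-- Only the identity centralises the alternating group. -/
theorem conjNormal_injective (h4 : 4 ≤ Fintype.card α) :
    Function.Injective (MulAut.conjNormal : Perm α →* MulAut (alternatingGroup α)) := by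
  refine (injective_iff_map_eq_one _).2 fun σ h => Equiv.ext fun a => ?_
  rw [Perm.one_apply]
  by_contra hne
  obtain ⟨b, -, hb⟩ : ∃ b ∈ Finset.univ, b ∉ ({a, σ a, σ⁻¹ a} : Finset α) :=
    Finset.exists_mem_notMem_of_card_lt_card (by
      have := Finset.card_le_three (a := a) (b := σ a) (c := σ⁻¹ a)
      rw [Finset.card_univ]
      omega)
  simp only [Finset.mem_insert, Finset.mem_singleton, not_or] at hb
  have hsb : σ b ≠ a := fun e => hb.2.2 (by rw [← e]; simp)
  have hbb : a ≠ b := Ne.symm hb.1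
  obtain ⟨d, -, hd⟩ : ∃ d ∈ Finset.univ, d ∉ ({a, b, σ a} : Finset α) :=
    Finset.exists_mem_notMem_of_card_lt_card (by
      have := Finset.card_le_three (a := a) (b := b) (c := σ a)
      rw [Finset.card_univ]
      omega)
  simp only [Finset.mem_insert, Finset.mem_singleton, not_or] at hd
  have e := congrArg (fun φ : MulAut (alternatingGroup α) =>
    ((φ ⟨cyc a b d, cyc_mem hbb (Ne.symm hd.2.1)⟩ : alternatingGroup α) : Perm α) (σ a)) h
  simp only [MulAut.conjNormal_apply, cyc_conj, MulAut.one_apply] at e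
  rw [cyc_fst (σ.injective.ne hbb) (σ.injective.ne (Ne.symm hd.1)),
    cyc_other hne (Ne.symm hb.2.1) (Ne.symm hd.2.2)] at e
  exact hbb (σ.injective e).symm

/-- `Aut A_n ≅ S_n`. -/
theorem conjNormal_bijective (h4 : 4 ≤ Fintype.card α) (h6 : Fintype.card α ≠ 6) :
    Function.Bijective (MulAut.conjNormal : Perm α →* MulAut (alternatingGroup α)) :=
  ⟨conjNormal_injective h4, exists_perm h4 h6⟩

end Cfsg.Agent.AltAut
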