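import Mathlib

/-!
Element orders of alternating groups through cycle types.
-/

set_option autoImplicit false

namespace Cfsg.Agent.AltSpectrum

theorem exists_order_eq (n : ℕ) (m : Multiset ℕ) (h2 : ∀ a ∈ m, 2 ≤ a) (hs : m.sum ≤ n)
    (he : Even (m.sum + Multiset.card m)) :
    m.lcm ∈ Set.range (orderOf : alternatingGroup (Fin n) → ℕ) := by
  obtain ⟨g, hg⟩ := (Equiv.Perm.exists_with_cycleType_iff (Fin n) (m := m)).mpr ⟨by simpa using hs, h2⟩
  refine ⟨⟨g, by rw [Equiv.Perm.mem_alternatingGroup, Equiv.Perm.sign_of_cycleType, hg, he.neg_one_pow]⟩, ?_⟩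
  rw [← Subgroup.orderOf_coe, ← Equiv.Perm.lcm_cycleType, hg]

theorem cycleType_props {n : ℕ} (g : alternatingGroup (Fin n)) :
    (∀ a ∈ (g : Equiv.Perm (Fin n)).cycleType, 2 ≤ a) ∧ (g : Equiv.Perm (Fin n)).cycleType.sum ≤ n ∧
      Even ((g : Equiv.Perm (Fin n)).cycleType.sum + Multiset.card (g : Equiv.Perm (Fin n)).cycleType) ∧
      orderOf g = (g : Equiv.Perm (Fin n)).cycleType.lcm := by
  refine ⟨fun a ha => Equiv.Perm.two_le_of_mem_cycleType ha, ?_, ?_, ?_⟩
  · rw [Equiv.Perm.sum_cycleType]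
    exact (Finset.card_le_univ _).trans (Fintype.card_fin n).le
  · have h : Equiv.Perm.sign (g : Equiv.Perm (Fin n)) = 1 := g.2
    rw [Equiv.Perm.sign_of_cycleType] at h
    by_contra hc
    rw [Nat.not_even_iff_odd] at hc
    rw [hc.neg_one_pow] at h
    exact absurd h (by decide)
  · rw [← Subgroup.orderOf_coe, Equiv.Perm.lcm_cycleType]

theorem exists_mem_dvd {r : ℕ} (hr : r.Prime) (m : Multiset ℕ) (h : r ∣ m.lcm) : ∃ a ∈ m, r ∣ a := by
  induction m using Multiset.induction_on with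
  | empty => simp at h; exact absurd h hr.ne_one
  | cons b m ih =>
    rw [Multiset.lcm_cons] at h
    rcases hr.dvd_mul.mp (h.trans (lcm_dvd (dvd_mul_right b m.lcm) (dvd_mul_left m.lcm b))) with h | h
    · exact ⟨b, Multiset.mem_cons_self _ _, h⟩
    · obtain ⟨a, ha, hra⟩ := ih h
      exact ⟨a, Multiset.mem_cons_of_mem ha, hra⟩

theorem even_of_all_odd (m : Multiset ℕ) (h : ∀ a ∈ m, Odd a) : Even (m.sum + Multiset.card m) := by
  induction m using Multiset.induction_on with
  | empty => simp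
  | cons b m ih =>
    obtain ⟨c, hc⟩ := h b (Multiset.mem_cons_self _ _)
    obtain ⟨d, hd⟩ := ih (fun a ha => h a (Multiset.mem_cons_of_mem ha))
    rw [Multiset.sum_cons, Multiset.card_cons]
    exact ⟨c + 1 + d, by omega⟩

theorem exists_second_even {m : Multiset ℕ} {b : ℕ} (hb : b ∈ m) (hbe : Even b)
    (he : Even (m.sum + Multiset.card m)) : ∃ c ∈ m.erase b, Even c := by
  by_contra hc
  have h := even_of_all_odd (m.erase b) (fun a ha => Nat.not_even_iff_odd.mp fun e => hc ⟨a, ha, e⟩)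
  rw [← Multiset.cons_erase hb, Multiset.sum_cons, Multiset.card_cons] at he
  obtain ⟨u, hu⟩ := h
  obtain ⟨v, hv⟩ := he
  obtain ⟨w, hw⟩ := hbe
  omega

theorem add_le_sum {m : Multiset ℕ} {a b : ℕ} (ha : a ∈ m) (hb : b ∈ m.erase a) : a + b ≤ m.sum := by
  rw [← Multiset.cons_erase ha, Multiset.sum_cons]
  exact Nat.add_le_add_left (Multiset.le_sum_of_mem hb) a

/-- All lists with entries at least two and bounded sum. -/
def gen : ℕ → ℕ → List (List ℕ)
  | 0, _ => [[]]
  | fuel + 1, n => [] :: (List.range (n + 1)).flatMap fun a =>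
      if 2 ≤ a then (gen fuel (n - a)).map (fun l => a :: l) else []

theorem mem_gen : ∀ (fuel n : ℕ) (l : List ℕ), l.length ≤ fuel → (∀ a ∈ l, 2 ≤ a) → l.sum ≤ n → l ∈ gen fuel n
  | 0, n, l, hl, _, _ => by rw [List.length_eq_zero_iff.mp (Nat.le_zero.mp hl)]; simp [gen]
  | fuel + 1, n, [], _, _, _ => by simp [gen]
  | fuel + 1, n, a :: l, hl, h2, hs => by
    simp only [gen, List.mem_cons, List.mem_flatMap, List.mem_range]
    refine Or.inr ⟨a, by simp only [List.sum_cons] at hs; omega, ?_⟩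
    rw [if_pos (h2 a (List.mem_cons_self ..)), List.mem_map]
    refine ⟨l, mem_gen fuel (n - a) l (by simp only [List.length_cons] at hl; omega)
      (fun b hb => h2 b (List.mem_cons_of_mem _ hb)) (by simp only [List.sum_cons] at hs; omega), rfl⟩

theorem length_le_half (l : List ℕ) (h : ∀ a ∈ l, 2 ≤ a) : 2 * l.length ≤ l.sum := by
  induction l with
  | nil => simp
  | cons a l ih =>
    have h1 := h a (List.mem_cons_self ..)
    have h2 := ih (fun b hb => h b (List.mem_cons_of_mem _ hb))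
    simp only [List.length_cons, List.sum_cons]
    omega

end Cfsg.Agent.AltSpectrum
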